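import Mathlib

/-! The Kummer–Artin–Schreier polynomial. -/

set_option autoImplicit false
universe u

open Polynomial

namespace Groth.Agent.KummerASLib

theorem domain_case (p : ℕ) (hp : p.Prime) (A : Type u) [CommRing A] [IsDomain A] (w : A) (hw : w ≠ 0)
    (hζ : (1 - w) ^ p = 1) :
    ∃ P : A[X], C (w ^ p) * P = (1 + C w * X) ^ p - 1 ∧
      (∃ a : ℕ → A, (∀ i, a i ∈ Ideal.span {w}) ∧
        P = X ^ p - X + (Finset.Ioo 0 p).sum (fun i => C (a i) * X ^ i)) ∧
      ∀ (z₁ z₂ : MvPolynomial (Fin 2) A), aeval (z₁ + z₂ + algebraMap A _ w * z₁ * z₂) P =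
        aeval z₁ P + aeval z₂ P + algebraMap A _ (w ^ p) * aeval z₁ P * aeval z₂ P := by
  classical
  have h2 := hp.two_le
  let d : ℕ → ℕ := fun i => p.choose i / p
  have hd : ∀ i ∈ Finset.Ioo 0 p, (p.choose i : A) = (p : A) * (d i : A) := fun i hi => by
    rw [Finset.mem_Ioo] at hi
    rw [← Nat.cast_mul, Nat.mul_div_cancel' (hp.dvd_choose_self hi.1.ne' hi.2)]
  have hbin : ∀ z : A, (1 + z) ^ p = 1 + z ^ p + (Finset.Ioo 0 p).sum (fun i => (p.choose i : A) * z ^ i) := fun z => by
    rw [add_comm 1 z, add_pow, show Finset.range (p + 1) = insert 0 (insert p (Finset.Ioo 0 p)) by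
      ext i; simp only [Finset.mem_range, Finset.mem_insert, Finset.mem_Ioo]; omega]
    rw [Finset.sum_insert (by simp; omega), Finset.sum_insert (by simp)]
    simp only [one_pow, mul_one, pow_zero, Nat.choose_zero_right, Nat.cast_one, Nat.choose_self]
    rw [← add_assoc]
    congr 1
    refine Finset.sum_congr rfl fun i _ => mul_comm _ _
  -- `p * g = -(-w) ^ (p - 1)` with `g ≡ 1` modulo `w`
  let g : A := 1 + ((Finset.Ioo 1 p).sum fun i => (d i : A) * (-w) ^ (i - 1))
  have hsplit : Finset.Ioo 0 p = insert 1 (Finset.Ioo 1 p) := by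
    ext i; simp only [Finset.mem_insert, Finset.mem_Ioo]; omega
  have hg : (p : A) * g = -(-w) ^ (p - 1) := by
    refine mul_left_cancel₀ (neg_ne_zero.2 hw) ?_
    have h := hbin (-w)
    rw [← sub_eq_add_neg, hζ] at h
    have hS : (Finset.Ioo 0 p).sum (fun i => (p.choose i : A) * (-w) ^ i) = (-w) * ((p : A) * g) := by
      rw [hsplit, Finset.sum_insert (by simp), Nat.choose_one_right, pow_one, mul_add, mul_add, mul_one,
        Finset.mul_sum, Finset.mul_sum]
      congr 1
      · ring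
      refine Finset.sum_congr rfl fun i hi => ?_
      rw [hd i (by rw [hsplit]; exact Finset.mem_insert_of_mem hi)]
      rw [Finset.mem_Ioo] at hi
      conv_lhs => rw [show i = (i - 1) + 1 by omega, pow_succ]
      rw [show i - 1 + 1 = i by omega]
      ring
    rw [hS] at h
    calc -w * ((p : A) * g) = -(-w) ^ p := by linear_combination -h
      _ = -w * -(-w) ^ (p - 1) := by
        conv_lhs => rw [show p = (p - 1) + 1 by omega, pow_succ]
        ring
  have hgu : IsUnit g := by
    by_contra hgu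
    obtain ⟨M, hM, hgM⟩ := exists_max_ideal_of_mem_nonunits hgu
    haveI := hM.isPrime
    have h1 : (-w) ^ (p - 1) ∈ M := by
      rw [← neg_neg ((-w) ^ (p - 1)), ← hg]
      exact neg_mem (M.mul_mem_left _ hgM)
    have h3 : w ∈ M := by simpa using hM.isPrime.mem_of_pow_mem _ h1
    refine hM.ne_top ((Ideal.eq_top_iff_one M).2 ?_)
    have h4 : g - 1 ∈ M := by
      rw [add_sub_cancel_left]
      refine Ideal.sum_mem M fun i hi => M.mul_mem_left _ (M.pow_mem_of_mem (neg_mem h3) _ ?_)
      rw [Finset.mem_Ioo] at hi; omega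
    simpa using M.sub_mem hgM h4
  obtain ⟨gi, hgi⟩ := hgu.exists_left_inv
  let u : A := -((-1) ^ (p - 1) * gi)
  have hpu : (p : A) = w ^ (p - 1) * u := by
    calc (p : A) = gi * ((p : A) * g) := by linear_combination (-(p : A)) * hgi
      _ = w ^ (p - 1) * u := by rw [hg, neg_pow w]; ring
  have hpw : (p : A) ∈ Ideal.span {w} :=
    Ideal.mem_span_singleton.2 (hpu ▸ (dvd_pow_self w (by omega)).mul_right _)
  have hu1 : u + 1 ∈ Ideal.span {w} := by
    have hmk : Ideal.Quotient.mk (Ideal.span {w}) w = 0 :=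
      Ideal.Quotient.eq_zero_iff_mem.2 (Ideal.mem_span_singleton_self w)
    have hgmk : Ideal.Quotient.mk (Ideal.span {w}) g = 1 := by
      rw [map_add, map_one, map_sum, Finset.sum_eq_zero, add_zero]
      intro i hi
      rw [Finset.mem_Ioo] at hi
      rw [map_mul, map_pow, map_neg, hmk, neg_zero, zero_pow (by omega), mul_zero]
    have hgimk : Ideal.Quotient.mk (Ideal.span {w}) gi = 1 := by
      have := congrArg (Ideal.Quotient.mk (Ideal.span {w})) hgi
      rwa [map_mul, map_one, hgmk, mul_one] at this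
    rw [← Ideal.Quotient.eq_zero_iff_mem, map_add, map_neg, map_mul, map_pow, map_neg, map_one, hgimk, mul_one]
    rcases hp.eq_two_or_odd' with rfl | hodd
    · have h22 : (2 : A ⧸ Ideal.span {w}) = 0 := by
        have := Ideal.Quotient.eq_zero_iff_mem.2 hpw
        simpa [map_ofNat] using this
      rw [pow_one, neg_neg, one_add_one_eq_two, h22]
    · rw [Even.neg_one_pow (Nat.Odd.sub_odd hodd odd_one), neg_add_cancel]
  let a : ℕ → A := fun i => if i = 1 then u + 1 else if 1 < i then (d i : A) * u * w ^ (i - 1) else 0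
  let P : A[X] := X ^ p - X + (Finset.Ioo 0 p).sum (fun i => C (a i) * X ^ i)
  have hP : C (w ^ p) * P = (1 + C w * X) ^ p - 1 := by
    rw [add_comm (1 : A[X]), add_pow, show Finset.range (p + 1) = insert 0 (insert p (Finset.Ioo 0 p)) by
      ext i; simp only [Finset.mem_range, Finset.mem_insert, Finset.mem_Ioo]; omega]
    rw [Finset.sum_insert (by simp; omega), Finset.sum_insert (by simp)]
    simp only [one_pow, mul_one, pow_zero, Nat.choose_zero_right, Nat.cast_one, Nat.choose_self, add_sub_cancel_left]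
    show C (w ^ p) * (X ^ p - X + _) = _
    rw [mul_add, mul_sub, mul_pow, ← map_pow, hsplit, Finset.sum_insert (by simp), Finset.sum_insert (by simp),
      Nat.choose_one_right, mul_add, Finset.mul_sum]
    simp only [a, if_true, pow_one]
    have h1 : C (w ^ p) * (C (u + 1) * X) = C (w ^ p) * X + C w * X * (p : A[X]) := by
      rw [← Polynomial.C_eq_natCast, hpu]
      conv_lhs => rw [show p = (p - 1) + 1 by omega, pow_succ]
      conv_rhs => rw [show w ^ p = w ^ (p - 1) * w by rw [← pow_succ]; congr 1; omega]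
      simp only [map_mul, map_add, map_one]
      ring
    have h2 : ∀ i ∈ Finset.Ioo 1 p, C (w ^ p) * (C (if i = 1 then u + 1 else if 1 < i then (d i : A) * u * w ^ (i - 1) else 0) * X ^ i) =
        (C w * X) ^ i * (p.choose i : A[X]) := by
      intro i hi
      have hi' := Finset.mem_Ioo.1 hi
      rw [if_neg (by omega), if_pos hi'.1, mul_pow, ← map_pow, ← Polynomial.C_eq_natCast,
        hd i (by rw [hsplit]; exact Finset.mem_insert_of_mem hi), hpu]
      have e : w ^ p * w ^ (i - 1) = w ^ i * w ^ (p - 1) := by rw [← pow_add, ← pow_add]; congr 1; omega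
      calc C (w ^ p) * (C ((d i : A) * u * w ^ (i - 1)) * X ^ i)
          = C (w ^ p * w ^ (i - 1) * ((d i : A) * u)) * X ^ i := by simp only [map_mul]; ring
        _ = _ := by rw [e]; simp only [map_mul]; ring
    rw [Finset.sum_congr rfl h2, h1]
    ring
  refine ⟨P, hP, ⟨a, fun i => ?_, rfl⟩, fun z₁ z₂ => ?_⟩
  · simp only [a]
    split_ifs with h h'
    · exact hu1
    · exact Ideal.mem_span_singleton.2 ((dvd_pow_self w (by omega)).mul_left _)
    · exact zero_mem _
  · let W : MvPolynomial (Fin 2) A := algebraMap A _ w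
    have hW : W ^ p ≠ 0 := pow_ne_zero _ fun h => hw (MvPolynomial.C_injective (Fin 2) A (h.trans (map_zero _).symm))
    have he : ∀ z : MvPolynomial (Fin 2) A, W ^ p * aeval z P = (1 + W * z) ^ p - 1 := fun z => by
      have := congrArg (aeval z) hP
      simpa [W] using this
    refine mul_left_cancel₀ hW ?_
    rw [map_pow, mul_add, mul_add, he,
      show W ^ p * (W ^ p * aeval z₁ P * aeval z₂ P) = (W ^ p * aeval z₁ P) * (W ^ p * aeval z₂ P) by ring, he, he]
    rw [show 1 + W * (z₁ + z₂ + W * z₁ * z₂) = (1 + W * z₁) * (1 + W * z₂) by ring, mul_pow]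
    ring

theorem general (p : ℕ) (hp : p.Prime) (A : Type u) [CommRing A] (ζ : A)
    (hζ : aeval ζ (cyclotomic p ℤ) = 0) :
    ∃ P : A[X], C ((1 - ζ) ^ p) * P = (1 + C (1 - ζ) * X) ^ p - 1 ∧
      (∃ a : ℕ → A, (∀ i, a i ∈ Ideal.span {1 - ζ}) ∧
        P = X ^ p - X + (Finset.Ioo 0 p).sum (fun i => C (a i) * X ^ i)) ∧
      ∀ (S : Type u) [CommRing S] [Algebra A S] (z₁ z₂ : S),
        aeval (z₁ + z₂ + algebraMap A S (1 - ζ) * z₁ * z₂) P =
          aeval z₁ P + aeval z₂ P + algebraMap A S ((1 - ζ) ^ p) * aeval z₁ P * aeval z₂ P := by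
  let Φ : ℤ[X] := cyclotomic p ℤ
  haveI : Fact (Irreducible Φ) := ⟨cyclotomic.irreducible hp.pos⟩
  haveI : IsDomain (AdjoinRoot Φ) :=
    AdjoinRoot.isDomain_of_prime (UniqueFactorizationMonoid.irreducible_iff_prime.1 (cyclotomic.irreducible hp.pos))
  let w₀ : AdjoinRoot Φ := 1 - AdjoinRoot.root Φ
  have hζ' : Φ.eval₂ (Int.castRingHom A) ζ = 0 := by
    rw [← hζ, aeval_def]; rfl
  let f : AdjoinRoot Φ →+* A := AdjoinRoot.lift (Int.castRingHom A) ζ hζ'
  have hf : f w₀ = 1 - ζ := by
    rw [show f w₀ = f 1 - f (AdjoinRoot.root Φ) from map_sub f _ _, map_one]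
    exact congrArg (fun t => 1 - t) (AdjoinRoot.lift_root hζ')
  have hmap : (Φ.map (AdjoinRoot.of Φ)).eval (AdjoinRoot.root Φ) = 0 := by
    rw [Polynomial.eval_map]; exact AdjoinRoot.eval₂_root Φ
  have hz : (AdjoinRoot.root Φ) ^ p = 1 := by
    have h := congrArg (fun q : ℤ[X] => (q.map (AdjoinRoot.of Φ)).eval (AdjoinRoot.root Φ)) (cyclotomic_prime_mul_X_sub_one ℤ p (hn := ⟨hp⟩))
    simp only [Polynomial.map_mul, Polynomial.map_sub, Polynomial.map_pow, map_X, Polynomial.map_one, eval_mul, eval_sub,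
      eval_pow, eval_X, eval_one] at h
    rw [hmap, zero_mul] at h
    exact sub_eq_zero.1 h.symm
  have hw : w₀ ≠ 0 := fun h0 => by
    have h1 : AdjoinRoot.root Φ = 1 := (sub_eq_zero.1 h0).symm
    have h2 : AdjoinRoot.of Φ ((p : ℕ) : ℤ) = 0 := by
      rw [← eval_one_cyclotomic_prime (R := ℤ) (hn := ⟨hp⟩), ← Polynomial.eval_map_apply, map_one]
      exact h1 ▸ hmap
    have h3 := AdjoinRoot.of.injective_of_degree_ne_zero (by
      rw [degree_cyclotomic]; exact_mod_cast (Nat.totient_pos.2 hp.pos).ne') (h2.trans (map_zero _).symm)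
    exact hp.ne_zero (by exact_mod_cast h3)
  obtain ⟨P₀, h1, ⟨a, ha, h2⟩, h3⟩ := domain_case p hp (AdjoinRoot Φ) w₀ hw (by rw [sub_sub_cancel]; exact hz)
  refine ⟨P₀.map f, ?_, ⟨fun i => f (a i), fun i => ?_, ?_⟩, fun S _ _ z₁ z₂ => ?_⟩
  · have := congrArg (Polynomial.map f) h1
    simpa [hf] using this
  · obtain ⟨c, hc⟩ := Ideal.mem_span_singleton.1 (ha i)
    exact Ideal.mem_span_singleton.2 ⟨f c, by simp only [hc, map_mul, hf]⟩
  · rw [h2]
    simp [Polynomial.map_sum]
  · let ψ : MvPolynomial (Fin 2) (AdjoinRoot Φ) →+* S :=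
      MvPolynomial.eval₂Hom ((algebraMap A S).comp f) ![z₁, z₂]
    have hψ : ∀ z, ψ (aeval z P₀) = aeval (ψ z) (P₀.map f) := fun z => by
      rw [aeval_def, Polynomial.hom_eval₂, aeval_def, Polynomial.eval₂_map]
      congr 1
      ext <;> simp [ψ]
    have := congrArg ψ (h3 (MvPolynomial.X 0) (MvPolynomial.X 1))
    simp only [hψ, map_add, map_mul] at this
    have e : ∀ c, ψ (algebraMap (AdjoinRoot Φ) _ c) = algebraMap A S (f c) := fun c => by simp [ψ]
    simp only [e, map_pow, hf] at this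
    simpa [ψ] using this

end Groth.Agent.KummerASLib
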